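import Cfsg.Agent.H91.M23R.OrbI
import Cfsg.Agent.H78.M22R.PartE

/-! The parity behind the closure of stars: pairs of blocks in a star have a stabiliser of order divisible by eight. -/

set_option autoImplicit false
set_option linter.style.haveILetI false

namespace H78.M23R

open Subgroup H78.M22R H91.M23R H62.M23A7

theorem four_points_trivial : ∀ a c : Equiv.Perm (Fin 4), a * a = 1 → c * c * c = 1 → c ≠ 1 →
    a * (c * a * c⁻¹) = (c * a * c⁻¹) * a → (∃ z, a z = z) →
    (∃ z, (a * (c * a * c⁻¹)) z = z) → a = 1 := by decide +kernel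

theorem four_points_three : ∀ c : Equiv.Perm (Fin 4), c * c * c = 1 →
    ∀ y z, y ≠ z → c y = y → c z = z → c = 1 := by decide +kernel

/-- An element of prime order without fixed points on a set it permutes by conjugation. -/
theorem dvd_of_no_fix {G : Type*} [Group G] [Finite G] {p : ℕ} [Fact p.Prime] {z : G}
    (hz : orderOf z = p) {P : G → Prop} (hP : ∀ v, P v → P (z * v * z⁻¹))
    (hfree : ∀ v, P v → ¬ Commute v z) : p ∣ Nat.card {v : G // P v} := by
  have hpow : ∀ (n : ℕ) (v : G), P v → P (z ^ n * v * (z ^ n)⁻¹) := by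
    intro n
    induction n with
    | zero => intro v hv; simpa using hv
    | succ n ih =>
      intro v hv
      rw [show z ^ (n + 1) * v * (z ^ (n + 1))⁻¹ = z * (z ^ n * v * (z ^ n)⁻¹) * z⁻¹ by
        rw [pow_succ']; group]
      exact hP _ (ih v hv)
  have hcl : ∀ k : zpowers z, ∀ v, P v → P (k.1 * v * k.1⁻¹) := fun k v hv => by
    obtain ⟨n, hn⟩ := (Submonoid.mem_powers_iff _ _).1 (mem_powers_iff_mem_zpowers.2 k.2)
    rw [← hn]; exact hpow n v hv
  let act : MulAction (zpowers z) {v : G // P v} :=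
    { smul := fun k v => ⟨k.1 * v.1 * k.1⁻¹, hcl k v.1 v.2⟩
      one_smul := fun v => Subtype.ext (show (1 : G) * v.1 * (1 : G)⁻¹ = v.1 by group)
      mul_smul := fun k l v => Subtype.ext
        (show (k.1 * l.1) * v.1 * (k.1 * l.1)⁻¹ = k.1 * (l.1 * v.1 * l.1⁻¹) * k.1⁻¹ by group) }
  by_contra h
  obtain ⟨v, hv⟩ := exists_fixed_of_not_dvd (isPGroup_zpowers hz) h
  exact hfree v.1 v.2
    (mul_inv_eq_iff_eq_mul.1 (congrArg Subtype.val (hv ⟨z, mem_zpowers z⟩))).symm

variable {G : Type*} [Group G] [Finite G] (L : H91.M23R.Loc G) {H : Hep G}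
  {π : ↥H.N →* A7} (hs : Function.Surjective π) (hk : π.ker = H.E.subgroupOf H.N) (O : Orb H π)

omit [Finite G] in
theorem base_fix {g : G} : g • H.base = H.base ↔ g ∈ H.N := by
  show ((g * 1 : G) : G ⧸ H.N) = ((1 : G) : G ⧸ H.N) ↔ _
  rw [mul_one, eq_comm, QuotientGroup.eq, inv_one, one_mul]

omit [Finite G] in
theorem E_mem_N {e : G} (he : e ∈ H.E) : e ∈ H.N := le_normalizer he

include hk

omit [Finite G] in
theorem pi_E {e : G} (he : e ∈ H.E) : π ⟨e, E_mem_N he⟩ = 1 := by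
  rw [← MonoidHom.mem_ker, hk]
  exact mem_subgroupOf.2 he

omit [Finite G] in
theorem pi_one_iff {n : ↥H.N} : π n = 1 ↔ (n : G) ∈ H.E := by
  rw [← MonoidHom.mem_ker, hk, mem_subgroupOf]

include O

theorem inj_stab {B : H.Blk} (hB : B ∈ O.one) {n m : ↥H.N} (hn : (n : G) • B = B)
    (hm : (m : G) • B = B) (h : π n = π m) : n = m := by
  have h1 : π (m⁻¹ * n) = 1 := by rw [map_mul, map_inv, h, inv_mul_cancel]
  have h2 := O.one_free B hB _ ((pi_one_iff hk).1 h1) (by
    show ((m : G)⁻¹ * (n : G)) • B = B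
    rw [mul_smul, hn, inv_smul_eq_iff, hm])
  exact (inv_mul_eq_one.1 (Subtype.ext h2 : m⁻¹ * n = 1)).symm

theorem mem_ptSt_of {B : H.Blk} (hB : B ∈ O.one) {n : ↥H.N} (hn : (n : G) • B = B) :
    π n ∈ ptSt (O.lab B) := by
  rw [mem_ptSt]
  have h := O.lab_eq n B hB
  rw [hn] at h
  exact h.symm

include hs

theorem exists_stab {B : H.Blk} (hB : B ∈ O.one) {p : A7} (hp : p ∈ ptSt (O.lab B)) :
    ∃ n : ↥H.N, (n : G) • B = B ∧ π n = p := by
  obtain ⟨m, rfl⟩ := hs p
  obtain ⟨e, he, e1⟩ := O.one_trans _ (O.smul_one m B hB) B hB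
    ((O.lab_eq m B hB).trans (mem_ptSt.1 hp))
  refine ⟨⟨e, E_mem_N he⟩ * m, ?_, by rw [map_mul, pi_E hk he, one_mul]⟩
  show (e * (m : G)) • B = B
  rw [mul_smul, e1]

theorem exists_stab_two {D : H.Blk} (hD : D ∈ O.two) {p : A7} (hp : p ∈ setSt (O.tri D)) :
    ∃ n : ↥H.N, (n : G) • D = D ∧ π n = p := by
  obtain ⟨m, rfl⟩ := hs p
  have htri : O.tri ((m : G) • D) = O.tri D := by
    rw [O.tri_eq m D hD]
    refine Finset.eq_of_subset_of_card_le (fun y hy => ?_) ?_
    · obtain ⟨x, hx, rfl⟩ := Finset.mem_image.1 hy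
      exact (mem_setSt.1 hp x).2 hx
    · rw [Finset.card_image_of_injective _ (Equiv.injective _)]
  obtain ⟨e, he, e1⟩ := O.two_trans _ (O.smul_two m D hD) D hD htri
  refine ⟨⟨e, E_mem_N he⟩ * m, ?_, by rw [map_mul, pi_E hk he, one_mul]⟩
  show (e * (m : G)) • D = D
  rw [mul_smul, e1]

theorem card_over {B : H.Blk} (hB : B ∈ O.one) {K : Subgroup A7} (hK : K ≤ ptSt (O.lab B)) :
    Nat.card {n : ↥H.N // (n : G) • B = B ∧ π n ∈ K} = Nat.card K := by
  refine Nat.card_congr (Equiv.ofBijective (fun n => (⟨π n.1, n.2.2⟩ : K)) ⟨fun a b e => ?_, ?_⟩)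
  · exact Subtype.ext (inj_stab hk O hB a.2.1 b.2.1 (congrArg Subtype.val e))
  · rintro ⟨p, hp⟩
    obtain ⟨n, hn, e⟩ := exists_stab hs hk O hB (hK hp)
    exact ⟨⟨n, hn, e ▸ hp⟩, Subtype.ext e⟩

omit hs in
theorem pow_eq_one_stab {B : H.Blk} (hB : B ∈ O.one) {n : ↥H.N} (hn : (n : G) • B = B) {k : ℕ}
    (h : π n ^ k = 1) : n ^ k = 1 := by
  refine inj_stab hk O hB ?_ (by rw [OneMemClass.coe_one, one_smul]) (by rw [map_pow, h, map_one])
  have : (n : G) ∈ MulAction.stabilizer G B := hn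
  exact pow_mem this k

include L

/-- A pair in the star consisting of two blocks of the first suborbit. -/
theorem eight_one {B D : H.Blk} (hB : B ∈ O.one) (hD : D ∈ O.one) (hl : O.lab D = O.lab B)
    (hne : D ≠ B) : 8 ∣ Nat.card {n : ↥H.N // (n : G) • B = B ∧ (n : G) • D = D} := by
  classical
  obtain ⟨e, he, rfl⟩ := O.one_trans B hB D hD hl.symm
  have he1 : e ≠ 1 := fun h => hne (by rw [h, one_smul])
  set T : Subgroup G := H.N ⊓ MulAction.stabilizer G B with hT
  have hT360 : Nat.card T = 360 := by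
    rw [← card_ptSt (O.lab B), ← card_over hs hk O hB le_rfl]
    exact Nat.card_congr
      { toFun := fun n => ⟨⟨n.1, (mem_inf.1 n.2).1⟩, (mem_inf.1 n.2).2,
          mem_ptSt_of hk O hB (mem_inf.1 n.2).2⟩
        invFun := fun n => ⟨n.1.1, mem_inf.2 ⟨n.1.2, n.2.1⟩⟩
        left_inv := fun n => rfl
        right_inv := fun n => rfl }
  have hiff : ∀ n : ↥H.N, (n : G) • B = B → ((n : G) • e • B = e • B ↔ (n : G) ∈ cz e) := by
    intro n hn
    have hen : (n : G) * e * (n : G)⁻¹ ∈ H.E := (mem_normalizer_iff.1 n.2 e).1 he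
    have hB' : (n : G)⁻¹ • B = B := inv_smul_eq_iff.2 hn.symm
    have e1 : (n : G) • e • B = ((n : G) * e * (n : G)⁻¹) • B := by
      rw [mul_smul ((n : G) * e), hB', mul_smul]
    rw [e1, mem_cz]
    constructor
    · intro h
      have h' := O.one_free B hB _ (mul_mem (inv_mem he) hen) (by rw [mul_smul, h, inv_smul_smul])
      rw [inv_mul_eq_one] at h'
      exact mul_inv_eq_iff_eq_mul.1 h'.symm
    · intro h
      rw [h.eq, mul_inv_cancel_right]
  have hcard : Nat.card {n : ↥H.N // (n : G) • B = B ∧ (n : G) • e • B = e • B} =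
      Nat.card (T ⊓ cz e : Subgroup G) := Nat.card_congr
    { toFun := fun n => ⟨n.1.1, mem_inf.2 ⟨mem_inf.2 ⟨n.1.2, n.2.1⟩, (hiff n.1 n.2.1).1 n.2.2⟩⟩
      invFun := fun n => ⟨⟨n.1, (mem_inf.1 (mem_inf.1 n.2).1).1⟩, (mem_inf.1 (mem_inf.1 n.2).1).2,
        (hiff ⟨n.1, (mem_inf.1 (mem_inf.1 n.2).1).1⟩ (mem_inf.1 (mem_inf.1 n.2).1).2).2
          (mem_inf.1 n.2).2⟩
      left_inv := fun n => rfl
      right_inv := fun n => rfl }
  rw [hcard]
  have horb := card_conj_orbit T e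
  rw [hT360] at horb
  set Ω := {v : G // ∃ n ∈ T, n * e * n⁻¹ = v}
  have hmemE : ∀ {v : G}, (∃ n ∈ T, n * e * n⁻¹ = v) → v ∈ H.E ∧ v ≠ 1 := by
    rintro v ⟨n, hn, rfl⟩
    exact ⟨(mem_normalizer_iff.1 (mem_inf.1 hn).1 e).1 he, fun h => he1 (conj_eq_one_iff.1 h)⟩
  have h15 : Nat.card Ω ≤ 15 := by
    haveI := Fintype.ofFinite H.E
    calc Nat.card Ω ≤ Nat.card {v : H.E // v ≠ 1} :=
          Nat.card_le_card_of_injective (fun v => ⟨⟨v.1, (hmemE v.2).1⟩, fun h =>
            (hmemE v.2).2 (congrArg Subtype.val h)⟩)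
            fun a b h => Subtype.ext (congrArg (fun u : {v : H.E // v ≠ 1} => u.1.1) h)
      _ = 15 := by
          rw [Nat.card_eq_fintype_card, Fintype.card_subtype_compl, Fintype.card_subtype_eq,
            ← Nat.card_eq_fintype_card, H.card_E]
  have hclosed : ∀ z ∈ T, ∀ v : G, (∃ n ∈ T, n * e * n⁻¹ = v) →
      ∃ n ∈ T, n * e * n⁻¹ = z * v * z⁻¹ := by
    rintro z hz v ⟨n, hn, rfl⟩
    exact ⟨z * n, mul_mem hz hn, by group⟩
  have hlift : ∀ {p : ℕ} [Fact p.Prime], p ∣ 360 → ∀ q : A7, q ∈ ptSt (O.lab B) → orderOf q = p →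
      ∃ z : ↥H.N, (z : G) ∈ T ∧ π z = q ∧ orderOf (z : G) = p := by
    intro p hp _ q hq ho
    obtain ⟨z, hz, rfl⟩ := exists_stab hs hk O hB hq
    refine ⟨z, mem_inf.2 ⟨z.2, hz⟩, rfl, orderOf_eq_prime ?_ ?_⟩
    · rw [← SubmonoidClass.coe_pow, pow_eq_one_stab hk O hB hz (pow_eq_one_of (by rw [ho])),
        OneMemClass.coe_one]
    · intro h
      have hz1 : z = 1 := Subtype.ext h
      rw [hz1, map_one, orderOf_one] at ho
      exact (Fact.out : p.Prime).ne_one ho.symm
  have h5 : 5 ∣ Nat.card Ω := by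
    haveI : Fact (Nat.Prime 5) := ⟨by norm_num⟩
    obtain ⟨q, hq, ho⟩ := exists_orderOf 5 (H := ptSt (O.lab B)) (by rw [card_ptSt]; norm_num)
    obtain ⟨z, hzT, -, hz⟩ := hlift (p := 5) (by norm_num) q hq ho
    refine dvd_of_no_fix hz (P := fun v => ∃ n ∈ T, n * e * n⁻¹ = v) (hclosed _ hzT) fun v hv hc => ?_
    obtain ⟨hvE, hv1⟩ := hmemE hv
    have h2 : orderOf v = 2 := orderOf_eq_prime (by rw [pow_two]; exact H.sq v hvE) hv1
    have h := Subgroup.orderOf_dvd_natCard (cz (z : G)) (mem_cz.2 hc)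
    rw [L.cent5 _ hz, h2] at h
    norm_num at h
  have h3 : 3 ∣ Nat.card Ω := by
    haveI : Fact (Nat.Prime 3) := ⟨by norm_num⟩
    obtain ⟨j, hj⟩ : ∃ j : Fin 7, j ≠ O.lab B := exists_ne _
    obtain ⟨R, hR, hiR⟩ : ∃ R : Finset (Fin 7), R.card = 3 ∧ O.lab B ∈ R := by
      generalize O.lab B = i
      revert i
      decide
    obtain ⟨c, hc, hc3, -⟩ := exists_three_klein hR hiR
    have ho : orderOf c = 3 := by
      rw [← orderOf_injective (alternatingGroup (Fin 7)).subtype Subtype.val_injective c]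
      exact hc3.orderOf
    obtain ⟨z, hzT, hzc, hz⟩ := hlift (p := 3) (by norm_num) c (mem_inf.1 hc).1 ho
    refine dvd_of_no_fix hz (P := fun v => ∃ n ∈ T, n * e * n⁻¹ = v) (hclosed _ hzT) fun v hv hcm => ?_
    obtain ⟨hvE, hv1⟩ := hmemE hv
    exact H62.M23A7.not_commute_of_threeCycle L H hk (n := z) (by rw [hzc]; exact hc3) hvE hv1 hcm.symm
  have hpos : 0 < Nat.card Ω := by
    haveI : Nonempty Ω := ⟨⟨e, 1, one_mem T, by group⟩⟩
    exact Nat.card_pos
  have h15' : Nat.card Ω = 15 := by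
    obtain ⟨a, ha⟩ := h5
    obtain ⟨b, hb⟩ := h3
    omega
  rw [h15'] at horb
  exact ⟨3, by omega⟩

/-- An involution over the Klein group fixes a block of the fibre. -/
theorem klein_fix {B : H.Blk} (hB : B ∈ O.one) {R : Finset (Fin 7)} {v : ↥H.N}
    (hv : (v : G) • B = B) (hsq : π v * π v = 1) (hv1 : π v ≠ 1)
    (hfix : ∀ y, ((π v : A7) : Equiv.Perm (Fin 7)) y = y ↔ y ∈ R) :
    ∃ D ∈ O.two, O.tri D = R ∧ (v : G) • D = D := by
  classical
  haveI : Fact (Nat.Prime 2) := ⟨Nat.prime_two⟩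
  have hv2 : (v : G) ^ 2 = 1 := by
    rw [← SubmonoidClass.coe_pow, pow_eq_one_stab hk O hB hv (by rw [pow_two]; exact hsq),
      OneMemClass.coe_one]
  have hvne : (v : G) ≠ 1 := fun h => hv1 (by rw [show v = 1 from Subtype.ext h, map_one])
  have hvo : orderOf (v : G) = 2 := orderOf_eq_prime hv2 hvne
  have hvE : (v : G) ∉ H.E := fun h => hv1 ((pi_one_iff hk).2 h)
  obtain ⟨u, huE, hu⟩ := exists_orderOf 2 (H := H.E) (by rw [H.card_E]; norm_num)
  obtain ⟨g, hg⟩ := isConj_iff.1 (L.conj2 u v hu hvo)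
  have hu1 : u ≠ 1 := fun h => by rw [h, orderOf_one] at hu; norm_num at hu
  have hfixF : ∀ w ∈ H.E, (g * w * g⁻¹) • g • H.base = g • H.base := fun w hw => by
    rw [mul_smul (g * w), inv_smul_smul, mul_smul, base_fix.2 (E_mem_N hw)]
  have hgN : g ∉ H.N := fun h => hvE (hg ▸ (mem_normalizer_iff.1 h u).1 huE)
  -- a non-trivial element of `E` fixes the block
  obtain ⟨w, hwE, hw1, hwF⟩ : ∃ w ∈ H.E, w ≠ 1 ∧ w • g • H.base = g • H.base := by
    by_contra hno
    push Not at hno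
    have hfree : ∀ w, (w ∈ H.E ∧ w ≠ 1) → ¬ Commute w (v : G) := by
      rintro w ⟨hw, hw1⟩ hc
      refine hno w hw hw1 ?_
      have hm : g⁻¹ * w * g ∈ H.N := H.cent u huE hu1 (mem_cz.2 (by
        have h := (commute_conj_iff g⁻¹ w (v : G)).2 hc
        rw [inv_inv, ← hg, show g⁻¹ * (g * u * g⁻¹) * g = u by group] at h
        exact h))
      rw [show w = g * (g⁻¹ * w * g) * g⁻¹ by group, mul_smul (g * (g⁻¹ * w * g)), inv_smul_smul,
        mul_smul, base_fix.2 hm]
    have h := dvd_of_no_fix hvo (P := fun w => w ∈ H.E ∧ w ≠ 1) (fun w hw =>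
      ⟨(mem_normalizer_iff.1 v.2 w).1 hw.1, fun h => hw.2 (conj_eq_one_iff.1 h)⟩) hfree
    haveI := Fintype.ofFinite H.E
    have h15 : Nat.card {w : G // w ∈ H.E ∧ w ≠ 1} = 15 := by
      rw [show Nat.card {w : G // w ∈ H.E ∧ w ≠ 1} = Nat.card {w : H.E // w ≠ 1} from Nat.card_congr
        { toFun := fun w => ⟨⟨w.1, w.2.1⟩, fun h => w.2.2 (congrArg Subtype.val h)⟩
          invFun := fun w => ⟨w.1.1, w.1.2, fun h => w.2 (Subtype.ext h)⟩
          left_inv := fun w => rfl
          right_inv := fun w => rfl },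
        Nat.card_eq_fintype_card, Fintype.card_subtype_compl, Fintype.card_subtype_eq,
        ← Nat.card_eq_fintype_card, H.card_E]
    rw [h15] at h
    norm_num at h
  have hF2 : g • H.base ∈ O.two := by
    rcases O.cover (g • H.base) with h | h | h
    · exact absurd (base_fix.1 h) hgN
    · exact absurd (O.one_free _ h w hwE hwF) hw1
    · exact h
  set W : Subgroup G := H.E.map (MulAut.conj g).toMonoidHom with hW
  have hmemW : ∀ {a : G}, a ∈ W ↔ g⁻¹ * a * g ∈ H.E := fun {a} =>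
    ⟨by rintro ⟨r, hr, rfl⟩
        simpa [MulAut.conj_apply, mul_assoc] using hr,
      fun h => ⟨_, h, by simp [MulAut.conj_apply, mul_assoc]⟩⟩
  have hfixW : ∀ {a : G}, a ∈ W → a • g • H.base = g • H.base := fun {a} ha => by
    have h := hfixF _ (hmemW.1 ha)
    rwa [show g * (g⁻¹ * a * g) * g⁻¹ = a by group] at h
  let V' : Subgroup A7 := (W.subgroupOf H.N).map π
  have hinj : Function.Injective (π.comp (W.subgroupOf H.N).subtype) := by
    rw [← MonoidHom.ker_eq_bot_iff, eq_bot_iff_forall]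
    intro a ha
    have haE : (a.1 : G) ∈ H.E := (pi_one_iff hk).1 ha
    have haW := hmemW.1 (mem_subgroupOf.1 a.2)
    by_contra h1
    have hne : g⁻¹ * (a.1 : G) * g ≠ 1 := fun h => h1 (Subtype.ext (Subtype.ext (by
      rw [show (a.1 : G) = g * (g⁻¹ * (a.1 : G) * g) * g⁻¹ by group, h]; simp)))
    exact hgN (H.ti g _ haW hne (by
      rw [show g * (g⁻¹ * (a.1 : G) * g) * g⁻¹ = (a.1 : G) by group]; exact haE))
  have hWcard : Nat.card (W.subgroupOf H.N) = 4 := by
    rw [← O.two_stab _ (O.two_symm g hF2)]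
    refine Nat.card_congr
      { toFun := fun a => ⟨g⁻¹ * (a.1 : G) * g, hmemW.1 (mem_subgroupOf.1 a.2), by
          rw [mul_smul (g⁻¹ * (a.1 : G)), smul_inv_smul, mul_smul, base_fix.2 a.1.2]⟩
        invFun := fun e => ⟨⟨g * e.1 * g⁻¹, base_fix.1 (by
            rw [mul_smul (g * e.1), mul_smul g e.1, e.2.2, smul_inv_smul])⟩,
          mem_subgroupOf.2 (hmemW.2 (by
            show g⁻¹ * (g * e.1 * g⁻¹) * g ∈ H.E
            rw [show g⁻¹ * (g * e.1 * g⁻¹) * g = e.1 by group]; exact e.2.1))⟩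
        left_inv := fun a => Subtype.ext (Subtype.ext (by simp only; group))
        right_inv := fun e => Subtype.ext (by simp only; group) }
  have hV'card : Nat.card V' = 4 := by
    rw [← hWcard]
    have e : V' = (π.comp (W.subgroupOf H.N).subtype).range := by
      rw [MonoidHom.range_comp, range_subtype]
    rw [e, Nat.card_congr (MonoidHom.ofInjective hinj).toEquiv]
  have hV'le : V' ≤ setSt (O.tri (g • H.base)) := by
    rintro _ ⟨n, hn, rfl⟩
    refine mem_setSt_of fun x hx => ?_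
    have h := O.tri_eq n _ hF2
    rw [hfixW (mem_subgroupOf.1 hn)] at h
    rw [h]
    exact Finset.mem_image_of_mem _ hx
  have hnorm : ∀ h ∈ setSt (O.tri (g • H.base)), ∀ a ∈ V', h * a * h⁻¹ ∈ V' := by
    rintro h hh _ ⟨n, hn, rfl⟩
    obtain ⟨m, hm, rfl⟩ := exists_stab_two hs hk O hF2 hh
    refine ⟨m * n * m⁻¹, mem_subgroupOf.2 (hmemW.2 ?_), by rw [map_mul, map_mul, map_inv]⟩
    have hmN : g⁻¹ * (m : G) * g ∈ H.N := base_fix.1 (by
      rw [mul_smul (g⁻¹ * (m : G)), mul_smul, hm, inv_smul_smul])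
    have h' := (mem_normalizer_iff.1 hmN _).1 (hmemW.1 (mem_subgroupOf.1 hn))
    show g⁻¹ * ((m : G) * n * (m : G)⁻¹) * g ∈ H.E
    rwa [show g⁻¹ * (m : G) * g * (g⁻¹ * (n : G) * g) * (g⁻¹ * (m : G) * g)⁻¹ =
      g⁻¹ * ((m : G) * n * (m : G)⁻¹) * g by group] at h'
  have hvW : (v : G) ∈ W := hmemW.2 (by
    rw [← hg, show g⁻¹ * (g * u * g⁻¹) * g = u by group]; exact huE)
  have h := (fix_of_normal_four (O.tri_card _ hF2) hV'le hnorm hV'card).2 (π v)
    ⟨v, mem_subgroupOf.2 hvW, rfl⟩ hv1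
  exact ⟨g • H.base, hF2, Finset.ext fun y => (h y).symm.trans (hfix y), hfixW hvW⟩

/-- A pair in the star with one block in each suborbit. -/
theorem eight_two {B D : H.Blk} (hB : B ∈ O.one) (hD : D ∈ O.two) (hi : O.lab B ∈ O.tri D) :
    8 ∣ Nat.card {n : ↥H.N // (n : G) • B = B ∧ (n : G) • D = D} := by
  classical
  set R := O.tri D with hR
  have hRc : R.card = 3 := O.tri_card D hD
  obtain ⟨c, hc, hc3, V, hV, hVle, hcV, hVfix⟩ := exists_three_klein hRc hi
  have hcR : ∀ y ∈ R, (c : Equiv.Perm (Fin 7)) y = y := by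
    intro y hy
    by_contra hne
    have hci : (c : Equiv.Perm (Fin 7)) (O.lab B) = O.lab B := mem_ptSt.1 (mem_inf.1 hc).1
    set z := (c : Equiv.Perm (Fin 7)) y with hz
    have hzR : z ∈ R := (mem_setSt.1 (mem_inf.1 hc).2 y).2 hy
    have hyi : y ≠ O.lab B := fun h => hne (by rw [hz, h]; exact hci)
    have hzi : z ≠ O.lab B := fun h => hyi ((c : Equiv.Perm (Fin 7)).injective (h.trans hci.symm))
    have hR' : R = {O.lab B, y, z} := by
      refine (Finset.eq_of_subset_of_card_le ?_ ?_).symm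
      · intro a ha
        simp only [Finset.mem_insert, Finset.mem_singleton] at ha
        rcases ha with rfl | rfl | rfl <;> assumption
      · rw [hRc, Finset.card_eq_three.2 ⟨_, _, _, hyi.symm, hzi.symm, (fun h => hne h.symm), rfl⟩]
    have hzz : (c : Equiv.Perm (Fin 7)) z = y := by
      have h := (mem_setSt.1 (mem_inf.1 hc).2 z).2 hzR
      rw [hR', Finset.mem_insert, Finset.mem_insert, Finset.mem_singleton] at h
      rcases h with h | h | h
      · exact absurd ((c : Equiv.Perm (Fin 7)).injective (h.trans hci.symm)) hzi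
      · exact h
      · exact absurd ((c : Equiv.Perm (Fin 7)).injective (h.trans hz)) hne
    have h3 : ((c : Equiv.Perm (Fin 7)) ^ 3) y = y := by
      rw [← hc3.orderOf, pow_orderOf_eq_one]; rfl
    rw [pow_succ, pow_two, Equiv.Perm.mul_apply, Equiv.Perm.mul_apply, ← hz, hzz] at h3
    exact hne h3
  have hVfree : ∀ k ∈ V, k ≠ 1 → ¬ Commute c k := by
    intro k hk hk1 hcm
    have hsub : (c : Equiv.Perm (Fin 7)).support ⊆ Rᶜ := fun y hy =>
      Finset.mem_compl.2 fun h => Equiv.Perm.mem_support.1 hy (hcR y h)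
    have hj : (Rᶜ \ (c : Equiv.Perm (Fin 7)).support).card = 1 := by
      rw [Finset.card_sdiff_of_subset hsub, Finset.card_compl, hRc, Fintype.card_fin,
        hc3.card_support]
    obtain ⟨j, hj⟩ := Finset.card_eq_one.1 hj
    have hjm : j ∈ Rᶜ \ (c : Equiv.Perm (Fin 7)).support := by rw [hj]; simp
    rw [Finset.mem_sdiff, Finset.mem_compl, Equiv.Perm.notMem_support] at hjm
    have hkj : (k : Equiv.Perm (Fin 7)) j ≠ j := fun h => hjm.1 ((hVfix k hk hk1 j).1 h)
    have hmem : (k : Equiv.Perm (Fin 7)) j ∈ Rᶜ \ (c : Equiv.Perm (Fin 7)).support := by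
      rw [Finset.mem_sdiff, Finset.mem_compl, Equiv.Perm.notMem_support]
      refine ⟨fun h => hkj ((k : Equiv.Perm (Fin 7)).injective ((hVfix k hk hk1 _).2 h)), ?_⟩
      have h := congrArg (fun a : A7 => (a : Equiv.Perm (Fin 7)) j) hcm.eq
      simp only [Subgroup.coe_mul, Equiv.Perm.mul_apply, hjm.2] at h
      exact h
    rw [hj, Finset.mem_singleton] at hmem
    exact hkj hmem
  have hVsq : ∀ k ∈ V, k * k = 1 := by
    intro k hk
    by_contra hm
    have hk1 : k ≠ 1 := fun h => hm (by rw [h, one_mul])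
    have h4 : k ^ 4 = 1 := pow_eq_one_of (by rw [← hV]; exact Subgroup.orderOf_dvd_natCard V hk)
    have ho : orderOf k = 4 := by
      have hd : orderOf k ∣ 4 := orderOf_dvd_of_pow_eq_one h4
      have hdiv : orderOf k ∈ Nat.divisors 4 := Nat.mem_divisors.2 ⟨hd, by norm_num⟩
      rw [show Nat.divisors 4 = {1, 2, 4} by decide] at hdiv
      simp only [Finset.mem_insert, Finset.mem_singleton] at hdiv
      rcases hdiv with h | h | h
      · exact absurd (orderOf_eq_one_iff.1 h) hk1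
      · exact absurd (by rw [← pow_two]; exact pow_eq_one_of (by rw [h])) hm
      · exact h
    have hVk : zpowers k = V := eq_of_le_of_card_ge (zpowers_le.2 hk)
      (by rw [hV, Nat.card_zpowers, ho])
    obtain ⟨n, hn⟩ := (Submonoid.mem_powers_iff _ _).1 (mem_powers_iff_mem_zpowers.2
      (show c * (k * k) * c⁻¹ ∈ zpowers k by rw [hVk]; exact hcV _ (mul_mem hk hk)))
    have hsq1 : (c * (k * k) * c⁻¹) ^ 2 = 1 := by
      rw [conj_pow, ← pow_two k, ← pow_mul, h4, mul_one, mul_inv_cancel]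
    rw [← hn, ← pow_mul] at hsq1
    have h2n : 2 ∣ n := by
      have := orderOf_dvd_of_pow_eq_one hsq1
      rw [ho] at this
      omega
    obtain ⟨l, rfl⟩ := h2n
    rw [pow_mul, pow_two] at hn
    rcases Nat.even_or_odd l with ⟨r, rfl⟩ | ⟨r, rfl⟩
    · rw [← two_mul, pow_mul, pow_two, show k * k * (k * k) = k ^ 4 by
        simp [pow_succ, mul_assoc], h4, one_pow, eq_comm, conj_eq_one_iff] at hn
      exact hm hn
    · rw [pow_succ, pow_mul, pow_two (k * k), show k * k * (k * k) = k ^ 4 by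
        simp [pow_succ, mul_assoc], h4, one_pow, one_mul] at hn
      exact hVfree _ (mul_mem hk hk) hm (mul_inv_eq_iff_eq_mul.1 hn.symm)
  have hVcomm : ∀ a ∈ V, ∀ b ∈ V, a * b = b * a := fun a ha b hb => by
    have h := hVsq _ (mul_mem ha hb)
    calc a * b = a⁻¹ * b⁻¹ := by
          rw [inv_eq_of_mul_eq_one_right (hVsq a ha), inv_eq_of_mul_eq_one_right (hVsq b hb)]
      _ = (b * a)⁻¹ := by rw [mul_inv_rev]
      _ = b * a := inv_eq_of_mul_eq_one_right (hVsq _ (mul_mem hb ha))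
  -- the group of order 24 and its action on the fibre
  let U : Subgroup ↥H.N :=
    (MulAction.stabilizer G B).subgroupOf H.N ⊓ (setSt R).comap π
  have hU : ∀ {n : ↥H.N}, n ∈ U ↔ (n : G) • B = B ∧ π n ∈ setSt R := fun {n} => Iff.rfl
  have hUK : ∀ {n : ↥H.N}, n ∈ U → π n ∈ ptSt (O.lab B) ⊓ setSt R := fun {n} h =>
    mem_inf.2 ⟨mem_ptSt_of hk O hB (hU.1 h).1, (hU.1 h).2⟩
  have hU24 : Nat.card U = 24 := by
    rw [← card_pt_set_in hRc hi, ← card_over hs hk O hB inf_le_left]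
    exact Nat.card_congr (Equiv.subtypeEquivRight fun n =>
      ⟨fun h => ⟨(hU.1 h).1, hUK h⟩, fun h => hU.2 ⟨h.1, (mem_inf.1 h.2).2⟩⟩)
  have htri : ∀ {n : ↥H.N}, π n ∈ setSt R → ∀ P ∈ O.two, O.tri P = R → O.tri ((n : G) • P) = R := by
    intro n hn P hP e
    rw [O.tri_eq n P hP, e]
    refine Finset.eq_of_subset_of_card_le (fun y hy => ?_) ?_
    · obtain ⟨x, hx, rfl⟩ := Finset.mem_image.1 hy
      exact (mem_setSt.1 hn x).2 hx
    · rw [Finset.card_image_of_injective _ (Equiv.injective _)]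
  let F := {P : H.Blk // P ∈ O.two ∧ O.tri P = R}
  let act : MulAction U F :=
    { smul := fun u P => ⟨(u.1 : G) • P.1, O.smul_two u.1 P.1 P.2.1,
        htri (hU.1 u.2).2 P.1 P.2.1 P.2.2⟩
      one_smul := fun P => Subtype.ext (one_smul G P.1)
      mul_smul := fun u u' P => Subtype.ext (mul_smul (u.1 : G) (u'.1 : G) P.1) }
  have hF : Nat.card F = 4 := O.tri_fib R hRc
  let f : F ≃ Fin 4 := Finite.equivFinOfCardEq hF
  let ψ : U →* Equiv.Perm (Fin 4) := f.permCongrHom.toMonoidHom.comp (MulAction.toPermHom U F)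
  have hψ : ∀ (u : U) (P : F), ψ u (f P) = f (u • P) := fun u P => by simp [ψ]
  let D0 : F := ⟨D, hD, rfl⟩
  have hlift : ∀ k ∈ ptSt (O.lab B) ⊓ setSt R, ∃ u : U, π u.1 = k := fun k hk' => by
    obtain ⟨n, hn, e⟩ := exists_stab hs hk O hB (mem_inf.1 hk').1
    exact ⟨⟨n, hU.2 ⟨hn, e.symm ▸ (mem_inf.1 hk').2⟩⟩, e⟩
  have hinjU : ∀ {u u' : U}, π u.1 = π u'.1 → u = u' := fun {u u'} h =>
    Subtype.ext (inj_stab hk O hB (hU.1 u.2).1 (hU.1 u'.2).1 h)
  obtain ⟨x, hx⟩ := hlift c hc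
  have hx3 : x * x * x = 1 := hinjU (by
    show π (x.1 * x.1 * x.1) = π 1
    rw [map_mul, map_mul, hx, map_one, ← pow_two, ← pow_succ]
    refine Subtype.ext ?_
    rw [SubmonoidClass.coe_pow, show (2 + 1 : ℕ) = 3 from rfl, ← hc3.orderOf, pow_orderOf_eq_one]
    rfl)
  have hψx3 : ψ x * ψ x * ψ x = 1 := by rw [← map_mul, ← map_mul, hx3, map_one]
  -- the element of order three does not fix the whole fibre
  have hψx : ψ x ≠ 1 := by
    intro h1
    have hxP : ∀ P : F, (x.1 : G) • P.1 = P.1 := fun P => by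
      have h := hψ x P
      rw [h1] at h
      exact (congrArg Subtype.val (f.injective h)).symm
    set W : Subgroup G := H.E ⊓ MulAction.stabilizer G D with hW
    have hW4 : Nat.card W = 4 := by
      rw [← O.two_stab D hD]
      exact Nat.card_congr (Equiv.subtypeEquivRight fun e => Iff.rfl)
    obtain ⟨e0, he0, he0W⟩ : ∃ e0 ∈ H.E, e0 ∉ W := by
      by_contra! h
      have := card_dvd_of_le (show H.E ≤ W from h)
      rw [H.card_E, hW4] at this
      norm_num at this
    have hxD : (x.1 : G) • D = D := hxP D0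
    have hxD' : (x.1 : G)⁻¹ • D = D := inv_smul_eq_iff.2 hxD.symm
    have hcomm : ∀ e ∈ H.E, e⁻¹ * ((x.1 : G) * e * (x.1 : G)⁻¹) ∈ W := by
      intro e he
      refine mem_inf.2 ⟨mul_mem (inv_mem he) ((mem_normalizer_iff.1 x.1.2 e).1 he), ?_⟩
      have heF : e • D ∈ O.two := O.smul_two ⟨e, E_mem_N he⟩ D hD
      have het : O.tri (e • D) = R := htri (n := ⟨e, E_mem_N he⟩)
        (by rw [pi_E hk he]; exact one_mem _) D hD rfl
      have hxe : (x.1 : G) • e • D = e • D := hxP ⟨e • D, heF, het⟩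
      show (e⁻¹ * ((x.1 : G) * e * (x.1 : G)⁻¹)) • D = D
      rw [mul_smul, mul_smul ((x.1 : G) * e), hxD', mul_smul, hxe, inv_smul_smul]
    haveI : Fact (Nat.Prime 3) := ⟨Nat.prime_three⟩
    have hxo : orderOf (x.1 : G) = 3 := orderOf_eq_prime (by
        rw [pow_succ, pow_two]
        exact congrArg (fun u : U => ((u.1 : ↥H.N) : G)) hx3) fun h => by
      have h' : x.1 = 1 := Subtype.ext h
      rw [h', map_one] at hx
      have := hc3.orderOf
      rw [← hx, OneMemClass.coe_one, orderOf_one] at this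
      norm_num at this
    have h3 := dvd_of_no_fix hxo (P := fun w => e0⁻¹ * w ∈ W) (fun w hw => by
      show e0⁻¹ * ((x.1 : G) * w * (x.1 : G)⁻¹) ∈ W
      have hxw : (x.1 : G) * (e0⁻¹ * w) * (x.1 : G)⁻¹ ∈ W := by
        refine mem_inf.2 ⟨(mem_normalizer_iff.1 x.1.2 _).1 (mem_inf.1 hw).1, ?_⟩
        show ((x.1 : G) * (e0⁻¹ * w) * (x.1 : G)⁻¹) • D = D
        rw [mul_smul ((x.1 : G) * (e0⁻¹ * w)), hxD', mul_smul,
          show (e0⁻¹ * w) • D = D from (mem_inf.1 hw).2, hxD]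
      rw [show e0⁻¹ * ((x.1 : G) * w * (x.1 : G)⁻¹) =
        e0⁻¹ * ((x.1 : G) * e0 * (x.1 : G)⁻¹) * ((x.1 : G) * (e0⁻¹ * w) * (x.1 : G)⁻¹) by group]
      exact mul_mem (hcomm e0 he0) hxw) (fun w hw hcm => by
      have hwE : w ∈ H.E := by
        have := mul_mem he0 (mem_inf.1 hw).1
        rwa [mul_inv_cancel_left] at this
      refine H62.M23A7.not_commute_of_threeCycle L H hk (n := x.1) (by rw [hx]; exact hc3) hwE
        (fun h => he0W ?_) hcm.symm
      rw [h, mul_one] at hw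
      exact inv_mem_iff.1 hw)
    rw [show Nat.card {w : G // e0⁻¹ * w ∈ W} = Nat.card W from
      Nat.card_congr ((Equiv.mulLeft e0⁻¹).subtypeEquiv fun w => Iff.rfl), hW4] at h3
    norm_num at h3
  -- the Klein group fixes the fibre
  have hker : ∀ u : U, π u.1 ∈ V → ψ u = 1 := by
    have hfixp : ∀ u : U, π u.1 ∈ V → ∃ z, ψ u z = z := by
      intro u hu
      by_cases hu1 : π u.1 = 1
      · have h : u = 1 := hinjU (by rw [hu1]; exact (map_one π).symm)
        exact ⟨0, by rw [h, map_one]; rfl⟩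
      obtain ⟨P, hP, hPR, hfixP⟩ := klein_fix L hs hk O hB (hU.1 u.2).1 (hVsq _ hu) hu1
        (hVfix _ hu hu1)
      exact ⟨f ⟨P, hP, hPR⟩, (hψ u ⟨P, hP, hPR⟩).trans (congrArg f (Subtype.ext hfixP))⟩
    intro u hu
    obtain ⟨u', hu'⟩ := hlift (c * π u.1 * c⁻¹) (hVle (hcV _ hu))
    have e' : u' = x * u * x⁻¹ := hinjU (by
      show π u'.1 = π (x.1 * u.1 * x.1⁻¹)
      rw [hu', map_mul, map_mul, map_inv, hx])
    have hu'' : π (u * u').1 ∈ V := by
      show π (u.1 * u'.1) ∈ V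
      rw [map_mul, hu']; exact mul_mem hu (hcV _ hu)
    have hcm : u * u' = u' * u := hinjU (by
      show π (u.1 * u'.1) = π (u'.1 * u.1)
      rw [map_mul, map_mul, hu']; exact hVcomm _ hu _ (hcV _ hu))
    have hsq : u * u = 1 := hinjU (by
      show π (u.1 * u.1) = π 1
      rw [map_mul, map_one]; exact hVsq _ hu)
    have eψ : ψ u' = ψ x * ψ u * (ψ x)⁻¹ := by rw [e', map_mul, map_mul, map_inv]
    refine four_points_trivial (ψ u) (ψ x) (by rw [← map_mul, hsq, map_one]) hψx3 hψx ?_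
      (hfixp u hu) ?_
    · rw [← eψ, ← map_mul, ← map_mul, hcm]
    · rw [← eψ, ← map_mul]; exact hfixp _ hu''
  -- the stabiliser
  let S : Subgroup U := MulAction.stabilizer U D0
  have hS : Nat.card {n : ↥H.N // (n : G) • B = B ∧ (n : G) • D = D} = Nat.card S := by
    refine Nat.card_congr
      { toFun := fun n => ⟨⟨n.1, hU.2 ⟨n.2.1, mem_setSt_of fun y hy => ?_⟩⟩, Subtype.ext n.2.2⟩
        invFun := fun u => ⟨u.1.1, (hU.1 u.1.2).1, congrArg Subtype.val u.2⟩
        left_inv := fun n => rfl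
        right_inv := fun u => rfl }
    have h := O.tri_eq n.1 D hD
    rw [n.2.2] at h
    rw [hR, h]
    exact Finset.mem_image_of_mem _ (hR ▸ hy)
  rw [hS]
  have h4 : 4 ∣ Nat.card S := by
    rw [← hV]
    choose g hg using fun k : V => hlift k.1 (hVle k.2)
    let φ : V →* S :=
      { toFun := fun k => ⟨g k, by
          show g k • D0 = D0
          refine f.injective ?_
          rw [← hψ, hker (g k) (by rw [hg]; exact k.2)]
          rfl⟩
        map_one' := Subtype.ext (hinjU (by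
          show π (g 1).1 = π 1
          rw [hg, map_one]; rfl))
        map_mul' := fun a b => Subtype.ext (hinjU (by
          show π (g (a * b)).1 = π ((g a).1 * (g b).1)
          rw [hg, map_mul, hg, hg]; rfl)) }
    refine card_dvd_of_injective φ fun a b e => Subtype.ext ?_
    rw [← hg a, ← hg b]
    exact congrArg (fun u : S => π u.1.1) e
  have hidx := S.card_mul_index
  rw [hU24] at hidx
  have hle : S.index ≤ 4 := by
    rw [show S.index = (MulAction.orbit U D0).ncard from MulAction.index_stabilizer U D0,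
      ← Nat.card_coe_set_eq, ← hF]
    exact Nat.card_le_card_of_injective Subtype.val Subtype.val_injective
  have hne2 : S.index ≠ 2 := by
    intro h2
    have hnormal : S.Normal := normal_of_index_eq_two h2
    have hxS : x ∈ S := by
      have h := S.sq_mem_of_index_two h2 x
      have h' : x = (x ^ 2) ^ 2 := by
        rw [← pow_mul, show 2 * 2 = 3 + 1 by norm_num, pow_succ, pow_succ x 2, pow_two, hx3,
          one_mul]
      rw [h']; exact pow_mem h 2
    obtain ⟨u, hu⟩ : ∃ u : U, u ∉ S := by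
      by_contra! h
      rw [index_eq_one.2 (eq_top_iff.2 fun a _ => h a)] at h2
      norm_num at h2
    have h1 : ψ x (f D0) = f D0 := (hψ x D0).trans (congrArg f hxS)
    have h3 : ψ x (f (u • D0)) = f (u • D0) := by
      rw [hψ]
      refine congrArg f ?_
      have h : (u⁻¹ * x * u) • D0 = D0 := by
        have := hnormal.conj_mem x hxS u⁻¹
        rwa [inv_inv] at this
      rw [mul_smul, mul_smul, inv_smul_eq_iff] at h
      exact h
    exact hψx (four_points_three _ hψx3 _ _ (fun h => hu (f.injective h).symm) h1 h3)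
  obtain ⟨q, hq⟩ := h4
  rw [hq] at hidx ⊢
  interval_cases hh : S.index <;> omega

omit L hs in
theorem eight (L : H91.M23R.Loc G) (hs : Function.Surjective π) : EightStmt O := by
  intro B hB D hD hne hbase
  rcases hD with h | ⟨h1, hl⟩ | ⟨h2, hi⟩
  · exact absurd h hbase
  · exact eight_one L hs hk O hB h1 hl hne
  · exact eight_two L hs hk O hB h2 hi

end H78.M23R
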